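import Groth.Agent.TildeCompl.Basic
import Groth.Prelude.Def_Wider
import Mathlib.AlgebraicGeometry.Modules.Tilde
import Mathlib.RingTheory.Noetherian.Basic

/-!
# Sections of `M~` on the punctured spectrum, up to torsion
-/

set_option autoImplicit false

universe u

open AlgebraicGeometry TopologicalSpace Opposite CategoryTheory

namespace Groth.Agent.PuncturedSec

open Groth.Agent.TildeCompl

variable {R : Type u} [CommRing R] (a : Ideal R) (M : Type u) [AddCommGroup M] [Module R M]

/-- The sections over an open. -/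
abbrev Sh (U : (Spec (CommRingCat.of R)).Opens) : Type u :=
  ↑((modulesSpecToSheaf.obj (tilde (R := CommRingCat.of R) (ModuleCat.of R M))).presheaf.obj (op U))

/-- Restriction of sections. -/
noncomputable abbrev shRes {U V : (Spec (CommRingCat.of R)).Opens} (h : U ≤ V) : Sh M V →ₗ[R] Sh M U :=
  ((modulesSpecToSheaf.obj (tilde (R := CommRingCat.of R) (ModuleCat.of R M))).presheaf.map (homOfLE h).op).hom

/-- The same sections as functions to the stalks. -/
noncomputable def toSec (U : (Spec (CommRingCat.of R)).Opens) : Sh M U ≃ₗ[R] Sec (A := R) M U :=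
  ((tilde.modulesSpecToSheafIso (R := CommRingCat.of R) (ModuleCat.of R M)).app (op U)).toLinearEquiv

lemma toSec_res {U V : (Spec (CommRingCat.of R)).Opens} (h : U ≤ V) (z : Sh M V) (x : U) :
    (toSec M U (shRes M h z)).1 x = (toSec M V z).1 ⟨x.1, h x.2⟩ := rfl

lemma mem_puncturedOpen {x : PrimeSpectrum R} :
    x ∈ LocCoh.puncturedOpen R a ↔ ¬ a ≤ x.asIdeal := by
  show ¬ (a : Set R) ⊆ x.asIdeal ↔ _
  rw [SetLike.coe_subset_coe]

variable {a M} in
/-- Over the punctured spectrum there is no torsion. -/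
lemma eq_zero_of_pow_smul {U : (Spec (CommRingCat.of R)).Opens} (hU : U ≤ LocCoh.puncturedOpen R a)
    (z : Sh M U) (n : ℕ) (h : ∀ c ∈ a ^ n, c • z = 0) : z = 0 := by
  apply (toSec M U).injective
  rw [map_zero]
  refine Sec.ext fun x => ?_
  obtain ⟨g, hg, hgx⟩ := SetLike.not_le_iff_exists.1 ((mem_puncturedOpen a).1 (hU x.2))
  have h0 := congrArg (fun w => (toSec M U w).1 x) (h _ (Ideal.pow_mem_pow hg n))
  simp only [map_smul, map_zero] at h0
  rw [structureSheafInType.smul_apply] at h0
  have hu := IsLocalizedModule.map_units (S := x.1.asIdeal.primeCompl)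
    (LocalizedModule.mkLinearMap x.1.asIdeal.primeCompl M) ⟨g ^ n, fun hh => hgx (x.1.isPrime.mem_of_pow_mem n hh)⟩
  refine ((Module.End.isUnit_iff _).1 hu).1 ?_
  show g ^ n • (toSec M U z).1 x = g ^ n • (0 : LocalizedModule x.1.asIdeal.primeCompl M)
  rw [smul_zero]
  exact h0

variable [IsNoetherianRing R]

variable {a M} in
lemma exists_pow_of_forall {N : Type u} [AddCommGroup N] [Module R N] (z : N)
    (h : ∀ g ∈ a, ∃ k : ℕ, g ^ k • z = 0) : ∃ n : ℕ, ∀ c ∈ a ^ n, c • z = 0 := by
  obtain ⟨n, hn⟩ := Ideal.exists_pow_le_of_le_radical_of_fg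
    (show a ≤ Ideal.radical (LinearMap.ker (LinearMap.toSpanSingleton R N z)) from fun g hg => h g hg)
    a.fg_of_isNoetherianRing
  exact ⟨n, fun c hc => hn hc⟩

variable {a M} in
/-- Sections vanishing on the punctured spectrum are torsion. -/
lemma exists_pow_smul_of_res_eq_zero {W : (Spec (CommRingCat.of R)).Opens}
    (hUW : LocCoh.puncturedOpen R a ≤ W) (z : Sh M W) (h : shRes M hUW z = 0) :
    ∃ n : ℕ, ∀ c ∈ a ^ n, c • z = 0 := by
  refine exists_pow_of_forall z fun g hg => ?_
  obtain ⟨k, hk⟩ := exists_pow_smul_sec_eq_zero (toSec M W z) g fun x hx => by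
    have hxU : x.1 ∈ LocCoh.puncturedOpen R a := (mem_puncturedOpen a).2 fun hle => hx (hle hg)
    have h0 := toSec_res M hUW z ⟨x.1, hxU⟩
    rw [h, map_zero] at h0
    exact h0.symm
  exact ⟨k, (toSec M W).injective (by rw [map_smul, hk, map_zero])⟩

lemma mem_iSup_torsion {N : Type u} [AddCommGroup N] [Module R N] (z : N) :
    z ∈ ⨆ n : ℕ, LocCoh.torsionBy (a ^ n) N ↔ ∃ n : ℕ, ∀ c ∈ a ^ n, c • z = 0 := by
  have hmono : Monotone fun n : ℕ => LocCoh.torsionBy (a ^ n) N := fun m n hmn =>
    Submodule.torsionBySet_le_torsionBySet_of_subset (Ideal.pow_le_pow_right hmn)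
  rw [Submodule.mem_iSup_of_directed _ hmono.directed_le]
  refine exists_congr fun n => ?_
  rw [Submodule.mem_torsionBySet_iff]
  exact ⟨fun h c hc => h ⟨c, hc⟩, fun h c => h c.1 c.2⟩

/-- The kernel of restriction is the torsion. -/
theorem ker_shRes {W : (Spec (CommRingCat.of R)).Opens} (hUW : LocCoh.puncturedOpen R a ≤ W) :
    LinearMap.ker (shRes M hUW) = ⨆ n : ℕ, LocCoh.torsionBy (a ^ n) (Sh M W) := by
  ext z
  rw [mem_iSup_torsion, LinearMap.mem_ker]
  refine ⟨exists_pow_smul_of_res_eq_zero hUW z, fun ⟨n, hn⟩ => ?_⟩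
  exact eq_zero_of_pow_smul le_rfl _ n fun c hc => by rw [← map_smul, hn c hc, map_zero]

/-- No torsion on the punctured spectrum. -/
theorem iSup_torsion_eq_bot :
    (⨆ n : ℕ, LocCoh.torsionBy (a ^ n) (Sh M (LocCoh.puncturedOpen R a))) = ⊥ := by
  rw [eq_bot_iff]
  intro z hz
  obtain ⟨n, hn⟩ := (mem_iSup_torsion a z).1 hz
  exact eq_zero_of_pow_smul le_rfl z n hn

/-- The cokernel from the global sections is torsion. -/
theorem exists_pow_smul_mem_range (z : Sh M (LocCoh.puncturedOpen R a)) :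
    ∃ n : ℕ, ∀ c ∈ a ^ n, c • z ∈ LinearMap.range (tilde.toOpen (R := CommRingCat.of R)
      (ModuleCat.of R M) (LocCoh.puncturedOpen R a)).hom := by
  let U := LocCoh.puncturedOpen R a
  let L := LinearMap.range (tilde.toOpen (R := CommRingCat.of R) (ModuleCat.of R M) U).hom
  obtain ⟨n, hn⟩ := exists_pow_of_forall (a := a) (L.mkQ z) fun g hg => by
    have hle : PrimeSpectrum.basicOpen g ≤ U := fun x hx => (mem_puncturedOpen a).2 fun hle => hx (hle hg)
    have hloc : IsLocalizedModule (Submonoid.powers g) (tilde.toOpen (R := CommRingCat.of R)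
        (ModuleCat.of R M) (PrimeSpectrum.basicOpen g)).hom :=
      IsLocalizedModule.of_linearEquiv (Submonoid.powers g)
        (StructureSheaf.toOpenₗ R M (PrimeSpectrum.basicOpen g))
        ((tilde.modulesSpecToSheafIso (R := CommRingCat.of R) (ModuleCat.of R M)).app
          (op (PrimeSpectrum.basicOpen g))).toLinearEquiv.symm
    obtain ⟨⟨m, ⟨_, k, rfl⟩⟩, hk⟩ := IsLocalizedModule.surj (Submonoid.powers g)
      (tilde.toOpen (R := CommRingCat.of R) (ModuleCat.of R M) (PrimeSpectrum.basicOpen g)).hom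
      (shRes M hle z)
    let w : Sh M U := g ^ k • z - (tilde.toOpen (R := CommRingCat.of R) (ModuleCat.of R M) U).hom m
    have hw : shRes M hle w = 0 := by
      rw [map_sub, map_smul, sub_eq_zero]
      exact hk
    obtain ⟨j, hj⟩ := exists_pow_smul_sec_eq_zero (toSec M U w) g fun x hx => by
      have h0 := toSec_res M hle w ⟨x.1, hx⟩
      rw [hw, map_zero] at h0
      exact h0.symm
    have hj' : g ^ j • w = 0 := (toSec M U).injective (by rw [map_smul, hj, map_zero])
    refine ⟨j + k, ?_⟩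
    rw [← map_smul]
    refine (Submodule.Quotient.mk_eq_zero _).2 ?_
    rw [pow_add, mul_smul]
    rw [smul_sub, sub_eq_zero] at hj'
    rw [hj']
    exact L.smul_mem _ (LinearMap.mem_range_self _ m)
  exact ⟨n, fun c hc => (Submodule.Quotient.mk_eq_zero _).1 ((map_smul L.mkQ c z).trans (hn c hc))⟩

end Groth.Agent.PuncturedSec
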